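import Groth.Agent.GrLib8.Assoc.Graded

/-!
Lengths of a colon ideal at a minimal prime of a Gorenstein quotient.
-/

namespace Groth.Agent.GrLib8.Assoc

open IsLocalRing
open scoped Classical

universe u

variable {R : Type u} [CommRing R] [IsNoetherianRing R] {𝔠 : Ideal R}

lemma phi_eq_zero_iff (P : Mins 𝔠) (y : R) : phi 𝔠 P y = 0 ↔ ∃ v ∉ P.1, v * y ∈ 𝔠 := by
  have h0 : 𝔠.map (phi 𝔠 P) = ⊥ := by
    rw [Ideal.map_eq_bot_iff_le_ker]
    intro c hc
    show algebraMap _ (LocMin 𝔠 P) (Ideal.Quotient.mk 𝔠 c) = 0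
    rw [Ideal.Quotient.eq_zero_iff_mem.2 hc, map_zero]
  have := phi_mem_iff P (le_refl 𝔠) y
  rwa [h0, Submodule.mem_bot] at this

lemma map_colon (P : Mins 𝔠) (I : Ideal R) :
    (𝔠.colon (I : Set R)).map (phi 𝔠 P) = annI (I.map (phi 𝔠 P)) := by
  refine le_antisymm (Ideal.map_le_iff_le_comap.2 fun y hy => mem_annI.2 fun i hi => ?_) fun z hz => ?_
  · have hle : I.map (phi 𝔠 P) ≤ LinearMap.ker (LinearMap.mul (LocMin 𝔠 P) (LocMin 𝔠 P) (phi 𝔠 P y)) :=
      Ideal.map_le_iff_le_comap.2 fun w hw => by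
        show phi 𝔠 P y * phi 𝔠 P w = 0
        rw [← map_mul, phi_eq_zero_iff]
        exact ⟨1, fun h => P.2.1.1.ne_top ((Ideal.eq_top_iff_one _).2 h), by
          rw [one_mul]; exact Submodule.mem_colon.1 hy w hw⟩
    exact hle hi
  · obtain ⟨r, t, rfl⟩ := IsLocalization.exists_mk'_eq (P.1.map (Ideal.Quotient.mk 𝔠)).primeCompl z
    obtain ⟨r, rfl⟩ := Ideal.Quotient.mk_surjective r
    have ht := IsLocalization.map_units (LocMin 𝔠 P) t
    have hr : IsLocalization.mk' (LocMin 𝔠 P) (Ideal.Quotient.mk 𝔠 r) t *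
        algebraMap _ (LocMin 𝔠 P) (t : R ⧸ 𝔠) = phi 𝔠 P r :=
      IsLocalization.mk'_spec (LocMin 𝔠 P) (Ideal.Quotient.mk 𝔠 r) t
    obtain ⟨s, hs⟩ := IsNoetherian.noetherian I
    have hv : ∀ i : R, i ∈ s → ∃ v ∉ P.1, v * (r * i) ∈ 𝔠 := fun i hi => by
      refine (phi_eq_zero_iff P _).1 ?_
      rw [map_mul, ← hr, mul_right_comm,
        mem_annI.1 hz _ (Ideal.mem_map_of_mem _ (hs ▸ Submodule.subset_span hi)), zero_mul]
    choose! v hv1 hv2 using hv
    let w := ∏ i ∈ s, v i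
    have hwp : w ∉ P.1 := fun hw => by
      obtain ⟨i, hi, hvi⟩ := (Ideal.IsPrime.prod_mem_iff (p := P.1)).1 hw
      exact hv1 i hi hvi
    have hcol : w * r ∈ 𝔠.colon (I : Set R) := by
      refine Submodule.mem_colon.2 fun i hi => ?_
      rw [SetLike.mem_coe, ← hs] at hi
      induction hi using Submodule.span_induction with
      | mem i hi =>
        rw [smul_eq_mul, show w = v i * ∏ j ∈ s.erase i, v j from (Finset.mul_prod_erase s v hi).symm,
          show v i * (∏ j ∈ s.erase i, v j) * r * i = (∏ j ∈ s.erase i, v j) * (v i * (r * i)) by ring]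
        exact 𝔠.mul_mem_left _ (hv2 i hi)
      | zero => rw [smul_zero]; exact 𝔠.zero_mem
      | add y z _ _ hy hz => rw [smul_add]; exact 𝔠.add_mem hy hz
      | smul c y _ hy => rw [smul_comm]; exact 𝔠.mul_mem_left c hy
    refine (Ideal.mul_unit_mem_iff_mem _ ht).1 ?_
    rw [hr]
    refine (Ideal.unit_mul_mem_iff_mem _ (isUnit_phi P hwp)).1 ?_
    rw [← map_mul]
    exact Ideal.mem_map_of_mem _ hcol

lemma lenAt_colon_add [LocCoh.IsGorensteinRing (R ⧸ 𝔠)] (P : Mins 𝔠) (I : Ideal R) :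
    lenAt P (𝔠.colon (I : Set R)) + lenAt P I = lenAt P 𝔠 := by
  haveI := isArtinian_locMin P
  haveI := LocCoh.IsGorensteinRing.isGorensteinLocalRing_localization (A := R ⧸ 𝔠) (P.1.map (Ideal.Quotient.mk 𝔠))
  have hnil : IsNilpotent (maximalIdeal (LocMin 𝔠 P)) :=
    (isArtinianRing_iff_isNilpotent_maximalIdeal _).1 inferInstance
  have h0 : 𝔠.map (phi 𝔠 P) = ⊥ := by
    rw [Ideal.map_eq_bot_iff_le_ker]
    exact fun c hc => (phi_eq_zero_iff P c).2
      ⟨1, fun h => P.2.1.1.ne_top ((Ideal.eq_top_iff_one _).2 h), by rwa [one_mul]⟩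
  rw [lenAt, lenAt, lenAt, map_colon, ← ENat.toNat_add (length_locMin_ne_top P _) (length_locMin_ne_top P _),
    length_quot_annI_add hnil, h0, (Submodule.quotEquivOfEqBot (⊥ : Ideal (LocMin 𝔠 P)) rfl).length_eq]

end Groth.Agent.GrLib8.Assoc
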