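import Groth.Agent.LC.LiaisonRows
import Mathlib.RingTheory.Length

/-!
Lengths of annihilators in an artinian Gorenstein local ring.
-/

namespace Groth.Agent.GrLib8.Assoc

open IsLocalRing

universe u

variable {D : Type u} [CommRing D]

/-- The annihilator of an ideal. -/
def annI (I : Ideal D) : Ideal D := (⊥ : Ideal D).colon (I : Set D)

lemma mem_annI {I : Ideal D} {a : D} : a ∈ annI I ↔ ∀ i ∈ I, a * i = 0 := by
  simp only [annI, Submodule.mem_colon, SetLike.mem_coe, smul_eq_mul, Submodule.mem_bot]

lemma annI_top : annI (⊤ : Ideal D) = ⊥ :=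
  le_antisymm (fun a ha => by simpa using mem_annI.1 ha 1 trivial) bot_le

lemma annI_bot : annI (⊥ : Ideal D) = ⊤ :=
  top_le_iff.1 fun a _ => mem_annI.2 fun i hi => by rw [(Submodule.mem_bot D).1 hi, mul_zero]

/-- The length of a submodule as a natural number. -/
noncomputable def lenI (I : Ideal D) : ℕ := (Module.length D I).toNat

variable [IsLocalRing D] [IsNoetherianRing D] [LocCoh.IsGorensteinLocalRing D]

lemma socle_le_span (hnil : IsNilpotent (maximalIdeal D)) {s : D} (hs : s ≠ 0)
    (hsm : ∀ a ∈ maximalIdeal D, a * s = 0) {t : D} (htm : ∀ a ∈ maximalIdeal D, a * t = 0) :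
    t ∈ Ideal.span {s} := by
  by_contra ht
  obtain ⟨a, ha, hat⟩ := LC.Liaison.exists_annihilator_mul_ne_zero hnil ht
  have h1 : a ∈ maximalIdeal D := by
    by_contra hu
    exact hs ((notMem_maximalIdeal.1 hu).mul_right_eq_zero.1 (ha s (Ideal.mem_span_singleton_self s)))
  exact hat (htm a h1)

lemma length_span_le_one {s : D} (hsm : ∀ a ∈ maximalIdeal D, a * s = 0) :
    Module.length D (Ideal.span {s} : Ideal D) ≤ 1 := by
  let f : D →ₗ[D] (Ideal.span {s} : Ideal D) :=
    LinearMap.toSpanSingleton D _ ⟨s, Ideal.mem_span_singleton_self s⟩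
  have hf : Function.Surjective f := by
    rintro ⟨x, hx⟩
    obtain ⟨a, rfl⟩ := Ideal.mem_span_singleton'.1 hx
    exact ⟨a, Subtype.ext rfl⟩
  have hle : maximalIdeal D ≤ LinearMap.ker f := fun a ha => Subtype.ext (hsm a ha)
  have h1 : Module.length D (Ideal.span {s} : Ideal D) ≤ Module.length D (D ⧸ maximalIdeal D) :=
    Module.length_le_of_surjective ((maximalIdeal D).liftQ f hle) fun x => by
      obtain ⟨a, rfl⟩ := hf x
      exact ⟨Submodule.Quotient.mk a, rfl⟩
  haveI : IsSimpleModule D (D ⧸ maximalIdeal D) :=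
    isSimpleModule_iff_isCoatom.2 (Ideal.isMaximal_def.1 inferInstance)
  exact h1.trans (Module.length_eq_one_iff.2 inferInstance).le

lemma length_annI_step (hnil : IsNilpotent (maximalIdeal D)) {I : Ideal D} {y : D}
    (hy : ∀ a ∈ maximalIdeal D, a * y ∈ I) :
    Module.length D (annI I) ≤ Module.length D (annI (I ⊔ Ideal.span {y})) + 1 := by
  let g : ↥(annI I) →ₗ[D] D := (LinearMap.mul D D).flip y ∘ₗ (annI I).subtype
  have hker : Module.length D (LinearMap.ker g) ≤ Module.length D (annI (I ⊔ Ideal.span {y})) := by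
    let e : ↥(LinearMap.ker g) →ₗ[D] ↥(annI (I ⊔ Ideal.span {y})) :=
      ((annI I).subtype ∘ₗ (LinearMap.ker g).subtype).codRestrict _ fun z => mem_annI.2 fun i hi => by
        obtain ⟨j, hj, w, hw, rfl⟩ := Submodule.mem_sup.1 hi
        obtain ⟨c, rfl⟩ := Ideal.mem_span_singleton'.1 hw
        have hz : (z.1.1 : D) * y = 0 := z.2
        show z.1.1 * (j + c * y) = 0
        rw [mul_add, mem_annI.1 z.1.2 j hj, zero_add, mul_left_comm, hz, mul_zero]
    exact Module.length_le_of_injective e fun a b h =>
      Subtype.ext (Subtype.ext (congrArg Subtype.val h :))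
  have hex : Function.Exact (LinearMap.ker g).subtype g.rangeRestrict := fun x => by
    rw [show g.rangeRestrict x = 0 ↔ g x = 0 from Subtype.ext_iff]
    exact ⟨fun h => ⟨⟨x, h⟩, rfl⟩, by rintro ⟨z, rfl⟩; exact z.2⟩
  rw [Module.length_eq_add_of_exact _ g.rangeRestrict (Submodule.injective_subtype _)
    g.surjective_rangeRestrict hex]
  refine add_le_add hker ?_
  by_cases h0 : ∀ z ∈ LinearMap.range g, z = 0
  · have : Subsingleton ↥(LinearMap.range g) :=
      ⟨fun a b => Subtype.ext ((h0 _ a.2).trans (h0 _ b.2).symm)⟩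
    rw [Module.length_eq_zero]
    exact zero_le_one
  · push Not at h0
    obtain ⟨s, hs, hs0⟩ := h0
    have hm : ∀ t ∈ LinearMap.range g, ∀ a ∈ maximalIdeal D, a * t = 0 := by
      rintro _ ⟨z, rfl⟩ a ha
      show a * (z.1 * y) = 0
      rw [mul_left_comm]
      exact mem_annI.1 z.2 _ (hy a ha)
    refine le_trans ?_ (length_span_le_one (hm s hs))
    exact Module.length_le_of_injective
      (Submodule.inclusion fun t ht => socle_le_span hnil hs0 (hm s hs) (hm t ht))
      (Submodule.inclusion_injective _)

omit [IsNoetherianRing D] [LocCoh.IsGorensteinLocalRing D] in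
lemma exists_step (hnil : IsNilpotent (maximalIdeal D)) {I I' : Ideal D} (hne : ¬ I' ≤ I) :
    ∃ y ∈ I', y ∉ I ∧ ∀ a ∈ maximalIdeal D, a * y ∈ I := by
  classical
  obtain ⟨N, hN⟩ := hnil
  have hex : ∃ k, maximalIdeal D ^ k * I' ≤ I := ⟨N, by rw [hN, Ideal.zero_eq_bot, Ideal.bot_mul]; exact bot_le⟩
  obtain ⟨k, hk⟩ : ∃ k, Nat.find hex = k + 1 := by
    refine Nat.exists_eq_add_one.2 (Nat.pos_of_ne_zero fun h => hne ?_)
    have := Nat.find_spec hex
    rwa [h, pow_zero, Ideal.one_eq_top, Ideal.top_mul] at this
  obtain ⟨y, hy, hyI⟩ := SetLike.not_le_iff_exists.1 (Nat.find_min hex (show k < Nat.find hex by omega))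
  refine ⟨y, Ideal.mul_le_right hy, hyI, fun a ha => ?_⟩
  have := Nat.find_spec hex
  rw [hk] at this
  refine this ?_
  rw [pow_succ', mul_assoc]
  exact Ideal.mul_mem_mul ha hy

lemma length_annI_add (hnil : IsNilpotent (maximalIdeal D)) (I' : Ideal D) :
    ∀ I : Ideal D, I ≤ I' →
      Module.length D (annI I) + Module.length D I ≤ Module.length D (annI I') + Module.length D I' := by
  intro I
  induction I using (IsNoetherian.wf (M := D) (R := D) inferInstance).induction with
  | _ I ih =>
  intro hle
  by_cases he : I' ≤ I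
  · rw [le_antisymm hle he]
  obtain ⟨y, hy, hyI, hym⟩ := exists_step hnil he
  have hlt : I < I ⊔ Ideal.span {y} :=
    lt_of_le_of_ne le_sup_left fun h => hyI (h ▸ Ideal.mem_sup_right (Ideal.mem_span_singleton_self y))
  refine le_trans ?_ (ih _ hlt (sup_le hle ((Ideal.span_singleton_le_iff_mem _).2 hy)))
  refine le_trans (add_le_add (length_annI_step hnil hym) le_rfl) ?_
  rw [add_assoc]
  refine add_le_add le_rfl ?_
  let i := Submodule.inclusion (R := D) hlt.le
  rw [Module.length_eq_add_of_exact i (LinearMap.range i).mkQ (Submodule.inclusion_injective _)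
    (Submodule.mkQ_surjective _) (LinearMap.exact_map_mkQ_range i), add_comm]
  refine add_le_add le_rfl (Order.one_le_iff_pos.2 (Module.length_pos_iff.2 ?_))
  rw [Submodule.Quotient.nontrivial_iff]
  intro htop
  obtain ⟨z, hz⟩ : (⟨y, Ideal.mem_sup_right (Ideal.mem_span_singleton_self y)⟩ : ↥(I ⊔ Ideal.span {y})) ∈
      LinearMap.range i := htop ▸ Submodule.mem_top
  have hzy : z.1 = y := congrArg Subtype.val hz
  exact hyI (hzy ▸ z.2)

/-- In an artinian Gorenstein local ring `length (0 : I) + length I = length D`. -/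
theorem length_annI_add_length (hnil : IsNilpotent (maximalIdeal D)) (I : Ideal D) :
    Module.length D (annI I) + Module.length D I = Module.length D D := by
  refine le_antisymm ?_ ?_
  · have := length_annI_add hnil ⊤ I le_top
    rwa [annI_top, Module.length_top, show Module.length D (⊥ : Ideal D) = 0 from
      Module.length_eq_zero, zero_add] at this
  · have := length_annI_add hnil I ⊥ bot_le
    rwa [annI_bot, Module.length_top, show Module.length D (⊥ : Ideal D) = 0 from
      Module.length_eq_zero, add_zero] at this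

/-- The same as lengths of quotients. -/
theorem length_quot_annI_add (hnil : IsNilpotent (maximalIdeal D)) (I : Ideal D) :
    Module.length D (D ⧸ annI I) + Module.length D (D ⧸ I) = Module.length D D := by
  haveI : IsArtinianRing D := (isArtinianRing_iff_isNilpotent_maximalIdeal D).2 hnil
  have hfin : ∀ (M : Type u) [AddCommGroup M] [Module D M] [Module.Finite D M], Module.length D M ≠ ⊤ :=
    fun M _ _ _ => Module.length_ne_top_iff.2
      (isFiniteLength_iff_isNoetherian_isArtinian.2 ⟨inferInstance, inferInstance⟩)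
  have e : ∀ J : Ideal D, Module.length D D = Module.length D J + Module.length D (D ⧸ J) := fun J =>
    Module.length_eq_add_of_exact J.subtype J.mkQ (Submodule.injective_subtype J)
      (Submodule.mkQ_surjective J) (LinearMap.exact_subtype_mkQ J)
  have h := length_annI_add_length hnil I
  have h1 := e (annI I)
  have h2 := e I
  have t1 := hfin D
  have t2 := hfin (annI I)
  have t3 := hfin I
  have t4 := hfin (D ⧸ annI I)
  have t5 := hfin (D ⧸ I)
  generalize Module.length D D = L, Module.length D (annI I) = a, Module.length D I = b,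
    Module.length D (D ⧸ annI I) = c, Module.length D (D ⧸ I) = d at *
  lift L to ℕ using t1
  lift a to ℕ using t2
  lift b to ℕ using t3
  lift c to ℕ using t4
  lift d to ℕ using t5
  norm_cast at h h1 h2 ⊢
  omega

end Groth.Agent.GrLib8.Assoc
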