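import Groth.Agent.GrLib8.Assoc.GorLen
import Groth.Agent.GrLib8.HilbertFn
import Groth.Agent.S9661

/-!
The associativity formula for the top coefficient of Hilbert polynomials of homogeneous ideals above a
fixed one.
-/

namespace Groth.Agent.GrLib8.Assoc

open MvPolynomial IsLocalRing DirectSum
open scoped Classical

universe u

attribute [local instance] MvPolynomial.gradedAlgebra

variable {K : Type u} [Field K] {n : ℕ}

/-- The Hilbert function of `R/B`. -/
noncomputable def hilb (B : Ideal (MvPolynomial (Fin (n + 1)) K)) (j : ℕ) : ℕ :=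
  Module.finrank K ↥((homogeneousSubmodule (Fin (n + 1)) K j).map (Ideal.Quotient.mkₐ K B).toLinearMap)

lemma finite_piece (j : ℕ) : Module.Finite K ↥(homogeneousSubmodule (Fin (n + 1)) K j) :=
  stdGr_natCast (k := K) (n + 1) j ▸ (stdGr_piece n (j : ℤ)).1

lemma hilb_eq (B : Ideal (MvPolynomial (Fin (n + 1)) K)) (j : ℕ) :
    (hilb B j : ℚ) = (Module.finrank K ↥(homogeneousSubmodule (Fin (n + 1)) K j) : ℚ) -
      Module.finrank K ↥(B.restrictScalars K ⊓ homogeneousSubmodule (Fin (n + 1)) K j) := by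
  have := finite_piece (K := K) (n := n) j
  let V := homogeneousSubmodule (Fin (n + 1)) K j
  let f : ↥V →ₗ[K] (MvPolynomial (Fin (n + 1)) K ⧸ B) := (Ideal.Quotient.mkₐ K B).toLinearMap.domRestrict V
  have hr : LinearMap.range f = V.map (Ideal.Quotient.mkₐ K B).toLinearMap := LinearMap.range_domRestrict _ _
  have hk : (LinearMap.ker f).map V.subtype = B.restrictScalars K ⊓ V := by
    ext x
    constructor
    · rintro ⟨⟨y, hy⟩, h, rfl⟩
      exact ⟨Ideal.Quotient.eq_zero_iff_mem.1 h, hy⟩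
    · rintro ⟨h1, h2⟩
      exact ⟨⟨x, h2⟩, Ideal.Quotient.eq_zero_iff_mem.2 h1, rfl⟩
  have h := f.finrank_range_add_finrank_ker
  rw [← Submodule.finrank_map_subtype_eq V (LinearMap.ker f), hk, hr] at h
  rw [← h, hilb]
  push_cast
  ring

/-- Passing from `B` to `B + (x)` when `(B : x) = p`. -/
lemma hilb_step {B p : Ideal (MvPolynomial (Fin (n + 1)) K)}
    (hB : B.IsHomogeneous (homogeneousSubmodule (Fin (n + 1)) K)) {a : ℕ} {x : MvPolynomial (Fin (n + 1)) K}
    (hx : x ∈ homogeneousSubmodule (Fin (n + 1)) K a) (hp : ∀ r, r ∈ p ↔ r * x ∈ B) (b : ℕ) :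
    hilb B (b + a) = hilb (B ⊔ Ideal.span {x}) (b + a) + hilb p b := by
  let 𝒜 := homogeneousSubmodule (Fin (n + 1)) K
  let B' := B ⊔ Ideal.span {x}
  have := finite_piece (K := K) (n := n) (b + a)
  let mB := (Ideal.Quotient.mkₐ K B).toLinearMap
  let V := (𝒜 (b + a)).map mB
  let f : (MvPolynomial (Fin (n + 1)) K ⧸ B) →ₗ[K] (MvPolynomial (Fin (n + 1)) K ⧸ B') :=
    (Ideal.Quotient.factorₐ K (le_sup_left : B ≤ B')).toLinearMap
  let g : (MvPolynomial (Fin (n + 1)) K ⧸ p) →ₗ[K] (MvPolynomial (Fin (n + 1)) K ⧸ B) :=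
    (p.restrictScalars K).liftQ (mB ∘ₗ (LinearMap.mulRight K x)) (fun r hr =>
      Ideal.Quotient.eq_zero_iff_mem.2 ((hp r).1 hr)) ∘ₗ
      (Submodule.Quotient.restrictScalarsEquiv K p).symm.toLinearMap
  have hg : ∀ r, g (Ideal.Quotient.mk p r) = Ideal.Quotient.mk B (r * x) := fun r => rfl
  have hginj : Function.Injective g := (injective_iff_map_eq_zero g).2 fun z hz => by
    obtain ⟨r, rfl⟩ := Ideal.Quotient.mk_surjective z
    rw [hg, Ideal.Quotient.eq_zero_iff_mem] at hz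
    exact Ideal.Quotient.eq_zero_iff_mem.2 ((hp r).2 hz)
  have hf : LinearMap.range (f.domRestrict V) = (𝒜 (b + a)).map (Ideal.Quotient.mkₐ K B').toLinearMap := by
    rw [LinearMap.range_domRestrict, ← Submodule.map_comp]
    rfl
  have hk : (LinearMap.ker (f.domRestrict V)).map V.subtype =
      ((𝒜 b).map (Ideal.Quotient.mkₐ K p).toLinearMap).map g := by
    ext z
    constructor
    · rintro ⟨⟨_, r, hr, rfl⟩, hz, rfl⟩
      have hr' : r ∈ B' := Ideal.Quotient.eq_zero_iff_mem.1 hz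
      obtain ⟨β, hβ, w, hw, hsum⟩ := Submodule.mem_sup.1 hr'
      obtain ⟨t, rfl⟩ := Ideal.mem_span_singleton'.1 hw
      refine ⟨Ideal.Quotient.mk p (decompose 𝒜 t b : MvPolynomial (Fin (n + 1)) K),
        ⟨_, (decompose 𝒜 t b).2, rfl⟩, ?_⟩
      rw [hg]
      show Ideal.Quotient.mk B _ = Ideal.Quotient.mk B r
      have hdec : r = (decompose 𝒜 β (b + a) : MvPolynomial (Fin (n + 1)) K) +
          (decompose 𝒜 t b : MvPolynomial (Fin (n + 1)) K) * x := by
        have h1 := decompose_of_mem_same 𝒜 hr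
        rw [← hsum, decompose_add, DirectSum.add_apply, Submodule.coe_add,
          coe_decompose_mul_of_right_mem_of_le 𝒜 hx (Nat.le_add_left a b), Nat.add_sub_cancel] at h1
        rw [h1, hsum]
      conv_rhs => rw [hdec]
      rw [Ideal.Quotient.eq, show ((decompose 𝒜 t b : MvPolynomial (Fin (n + 1)) K) * x -
        ((decompose 𝒜 β (b + a) : MvPolynomial (Fin (n + 1)) K) +
          (decompose 𝒜 t b : MvPolynomial (Fin (n + 1)) K) * x)) =
          -(decompose 𝒜 β (b + a) : MvPolynomial (Fin (n + 1)) K) by ring]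
      exact neg_mem (hB (b + a) hβ)
    · rintro ⟨_, ⟨r, hr, rfl⟩, rfl⟩
      refine ⟨⟨mB (r * x), ⟨r * x, SetLike.mul_mem_graded hr hx, rfl⟩⟩, ?_, (hg r).symm⟩
      exact Ideal.Quotient.eq_zero_iff_mem.2
        (Ideal.mem_sup_right (Ideal.mem_span_singleton'.2 ⟨r, rfl⟩))
  have h := (f.domRestrict V).finrank_range_add_finrank_ker
  rw [hf, ← Submodule.finrank_map_subtype_eq V (LinearMap.ker (f.domRestrict V)), hk,
    ← (Submodule.equivMapOfInjective g hginj _).finrank_eq] at h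
  exact h.symm

lemma exists_poly_hilb {B : Ideal (MvPolynomial (Fin (n + 1)) K)}
    (hB : B.IsHomogeneous (homogeneousSubmodule (Fin (n + 1)) K)) (hne : B ≠ ⊥) {D : ℕ}
    (hdim : ringKrullDim (MvPolynomial (Fin (n + 1)) K ⧸ B) ≤ ((D + 1 : ℕ) : WithBot ℕ∞)) :
    ∃ Q : Polynomial ℚ, (∃ N, ∀ j : ℕ, N ≤ j → Q.eval (j : ℚ) = hilb B j) ∧ Q.natDegree ≤ D := by
  obtain ⟨Q, -, N, hN⟩ := S9661.existsPoly n B hB hne
  refine ⟨Q, ⟨N, fun j hj => by rw [hilb_eq, hN j hj]⟩, ?_⟩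
  rcases eq_or_ne Q 0 with h0 | h0
  · rw [h0, Polynomial.natDegree_zero]; exact Nat.zero_le _
  · have h := S10907.result K n B hB Q h0 ⟨N, fun j hj => (hN j hj).symm⟩
    rw [h] at hdim
    have : Q.natDegree + 1 ≤ D + 1 := by exact_mod_cast hdim
    omega

lemma eq_of_eventually {Q₁ Q₂ : Polynomial ℚ} {N : ℕ} (h : ∀ j : ℕ, N ≤ j → Q₁.eval (j : ℚ) = Q₂.eval (j : ℚ)) :
    Q₁ = Q₂ :=
  Polynomial.eq_of_infinite_eval_eq _ _ (((Set.Ici_infinite N).image Nat.cast_injective.injOn).mono (by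
    rintro _ ⟨j, hj, rfl⟩
    exact h j hj))

lemma height_add_dim_le (P : Ideal (MvPolynomial (Fin (n + 1)) K)) [P.IsPrime] :
    (P.height : WithBot ℕ∞) + ringKrullDim (MvPolynomial (Fin (n + 1)) K ⧸ P) ≤ ((n + 1 : ℕ) : WithBot ℕ∞) := by
  let x : PrimeSpectrum (MvPolynomial (Fin (n + 1)) K) := ⟨P, inferInstance⟩
  rw [← VarDim.coheight_eq_ringKrullDim_quotient x,
    show P.height = x.asIdeal.height from rfl, PrimeSpectrum.height_eq_orderHeight, ← WithBot.coe_add]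
  refine le_trans ?_ (le_of_eq ((MvPolynomial.ringKrullDim_of_isNoetherianRing (R := K)).trans
    (by rw [ringKrullDim_eq_zero_of_field, zero_add, Nat.card_fin])))
  rw [show ringKrullDim (MvPolynomial (Fin (n + 1)) K) = Order.krullDim (PrimeSpectrum _) from rfl,
    Order.krullDim_eq_iSup_height_add_coheight_of_nonempty]
  exact WithBot.coe_le_coe.2 (le_iSup (fun a : PrimeSpectrum (MvPolynomial (Fin (n + 1)) K) =>
    Order.height a + Order.coheight a) x)

/-- The leading data of a prime. -/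
noncomputable def lead (D : ℕ) (P : Ideal (MvPolynomial (Fin (n + 1)) K)) : ℚ :=
  if h : ∃ Q : Polynomial ℚ, ∃ N, ∀ j : ℕ, N ≤ j → Q.eval (j : ℚ) = hilb P j then h.choose.coeff D else 0

lemma lead_eq {D : ℕ} {P : Ideal (MvPolynomial (Fin (n + 1)) K)} {Q : Polynomial ℚ} {N : ℕ}
    (hQ : ∀ j : ℕ, N ≤ j → Q.eval (j : ℚ) = hilb P j) : lead D P = Q.coeff D := by
  have h : ∃ Q : Polynomial ℚ, ∃ N, ∀ j : ℕ, N ≤ j → Q.eval (j : ℚ) = hilb P j := ⟨Q, N, hQ⟩
  rw [lead, dif_pos h]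
  obtain ⟨N', hN'⟩ := h.choose_spec
  rw [eq_of_eventually (N := max N N') (Q₁ := h.choose) (Q₂ := Q) fun j hj => by
    rw [hN' j ((le_max_right _ _).trans hj), hQ j ((le_max_left _ _).trans hj)]]

lemma coeff_comp_shift {Q : Polynomial ℚ} {D : ℕ} (hQ : Q.natDegree ≤ D) (t : ℚ) :
    (Q.comp (Polynomial.X + Polynomial.C t)).natDegree ≤ D ∧
      (Q.comp (Polynomial.X + Polynomial.C t)).coeff D = Q.coeff D := by
  have hdeg : (Q.comp (Polynomial.X + Polynomial.C t)).natDegree = Q.natDegree := by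
    rw [Polynomial.natDegree_comp, Polynomial.natDegree_X_add_C, mul_one]
  refine ⟨hdeg.le.trans hQ, ?_⟩
  rcases eq_or_lt_of_le hQ with h | h
  · conv_lhs => rw [← h, ← hdeg]
    rw [Polynomial.coeff_natDegree, Polynomial.leadingCoeff_comp (by rw [Polynomial.natDegree_X_add_C]; exact one_ne_zero),
      Polynomial.leadingCoeff_X_add_C, one_pow, mul_one, ← Polynomial.coeff_natDegree, h]
  · rw [Polynomial.coeff_eq_zero_of_natDegree_lt h, Polynomial.coeff_eq_zero_of_natDegree_lt (hdeg ▸ h)]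

section Local

variable {R : Type u} [CommRing R] [IsNoetherianRing R] (𝔠 : Ideal R)

/-- The minimal primes. -/
abbrev Mins : Type u := {P : Ideal R // P ∈ 𝔠.minimalPrimes}

instance isPrime_mins (P : Mins 𝔠) : P.1.IsPrime := P.2.1.1

instance isPrime_map_mins (P : Mins 𝔠) : (P.1.map (Ideal.Quotient.mk 𝔠)).IsPrime :=
  Ideal.map_isPrime_of_surjective Ideal.Quotient.mk_surjective (by rw [Ideal.mk_ker]; exact P.2.1.2)

noncomputable instance fintype_mins : Fintype (Mins 𝔠) :=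
  (𝔠.finite_minimalPrimes_of_isNoetherianRing _).fintype

/-- The local ring of `R/𝔠` at a minimal prime. -/
abbrev LocMin (P : Mins 𝔠) : Type u := Localization.AtPrime (P.1.map (Ideal.Quotient.mk 𝔠))

/-- The map to it. -/
noncomputable def phi (P : Mins 𝔠) : R →+* LocMin 𝔠 P :=
  (algebraMap (R ⧸ 𝔠) (LocMin 𝔠 P)).comp (Ideal.Quotient.mk 𝔠)

variable {𝔠} (P : Mins 𝔠)

lemma comap_map_mins : (P.1.map (Ideal.Quotient.mk 𝔠)).comap (Ideal.Quotient.mk 𝔠) = P.1 := by
  rw [Ideal.comap_map_of_surjective' _ Ideal.Quotient.mk_surjective, Ideal.mk_ker, sup_eq_left.2 P.2.1.2]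

lemma isUnit_phi {v : R} (hv : v ∉ P.1) : IsUnit (phi 𝔠 P v) :=
  IsLocalization.map_units (LocMin 𝔠 P)
    (⟨Ideal.Quotient.mk 𝔠 v, fun h => hv (by rw [← comap_map_mins P]; exact h)⟩ :
      (P.1.map (Ideal.Quotient.mk 𝔠)).primeCompl)

lemma phi_mem_iff {B : Ideal R} (hB : 𝔠 ≤ B) (y : R) :
    phi 𝔠 P y ∈ B.map (phi 𝔠 P) ↔ ∃ v ∉ P.1, v * y ∈ B := by
  rw [show B.map (phi 𝔠 P) = (B.map (Ideal.Quotient.mk 𝔠)).map
    (algebraMap (R ⧸ 𝔠) (LocMin 𝔠 P)) from (Ideal.map_map _ _).symm]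
  show algebraMap _ (LocMin 𝔠 P) (Ideal.Quotient.mk 𝔠 y) ∈ _ ↔ _
  rw [IsLocalization.algebraMap_mem_map_algebraMap_iff (P.1.map (Ideal.Quotient.mk 𝔠)).primeCompl]
  have hmem : ∀ w, Ideal.Quotient.mk 𝔠 w ∈ B.map (Ideal.Quotient.mk 𝔠) ↔ w ∈ B := fun w => by
    rw [← Ideal.mem_comap, Ideal.comap_map_of_surjective' _ Ideal.Quotient.mk_surjective, Ideal.mk_ker,
      sup_eq_left.2 hB]
  constructor
  · rintro ⟨v, hv, h⟩
    obtain ⟨v, rfl⟩ := Ideal.Quotient.mk_surjective v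
    exact ⟨v, fun hvP => hv (Ideal.mem_map_of_mem _ hvP), (hmem _).1 (by rw [map_mul]; exact h)⟩
  · rintro ⟨v, hv, h⟩
    exact ⟨Ideal.Quotient.mk 𝔠 v, fun hvm => hv (by rw [← comap_map_mins P]; exact hvm),
      by rw [← map_mul]; exact (hmem _).2 h⟩

lemma isArtinian_locMin : IsArtinianRing (LocMin 𝔠 P) := by
  have hmin : P.1.map (Ideal.Quotient.mk 𝔠) ∈ minimalPrimes (R ⧸ 𝔠) := by
    refine ⟨⟨inferInstance, bot_le⟩, fun q hq hqp => ?_⟩
    haveI := hq.1
    have h2 := P.2.2 ⟨Ideal.IsPrime.comap (Ideal.Quotient.mk 𝔠), fun y hy => by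
      rw [Ideal.mem_comap, Ideal.Quotient.eq_zero_iff_mem.2 hy]; exact q.zero_mem⟩
      ((Ideal.comap_mono hqp).trans (comap_map_mins P).le)
    exact (Ideal.map_mono h2).trans Ideal.map_comap_le
  haveI : Ring.KrullDimLE 0 (LocMin 𝔠 P) := Ring.krullDimLE_iff.2 (by
    rw [IsLocalization.AtPrime.ringKrullDim_eq_height (P.1.map (Ideal.Quotient.mk 𝔠)) (LocMin 𝔠 P),
      Ideal.height_eq_zero_iff.2 hmin]
    rfl)
  exact isArtinianRing_iff_krullDimLE_zero.2 inferInstance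

/-- The length of `R/B` at a minimal prime. -/
noncomputable def lenAt (P : Mins 𝔠) (B : Ideal R) : ℕ :=
  (Module.length (LocMin 𝔠 P) (LocMin 𝔠 P ⧸ B.map (phi 𝔠 P))).toNat

lemma length_quot_step {D : Type u} [CommRing D] [IsLocalRing D] {I : Ideal D} {y : D} (hy : y ∉ I)
    (hym : ∀ a ∈ maximalIdeal D, a * y ∈ I) :
    Module.length D (D ⧸ I) = Module.length D (D ⧸ (I ⊔ Ideal.span {y})) + 1 := by
  let ι : (D ⧸ maximalIdeal D) →ₗ[D] (D ⧸ I) :=
    (maximalIdeal D).liftQ (LinearMap.toSpanSingleton D _ (Submodule.Quotient.mk y)) fun a ha => by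
      rw [LinearMap.mem_ker, LinearMap.toSpanSingleton_apply, ← Submodule.Quotient.mk_smul,
        Submodule.Quotient.mk_eq_zero]
      exact hym a ha
  haveI : IsSimpleModule D (D ⧸ maximalIdeal D) :=
    isSimpleModule_iff_isCoatom.2 (Ideal.isMaximal_def.1 inferInstance)
  have hι : Function.Injective ι := (LinearMap.injective_or_eq_zero ι).resolve_right fun h => hy (by
    have := LinearMap.congr_fun h (Submodule.Quotient.mk (1 : D))
    rwa [LinearMap.zero_apply, Submodule.liftQ_apply, LinearMap.toSpanSingleton_apply, one_smul,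
      Submodule.Quotient.mk_eq_zero] at this)
  have hex : Function.Exact ι (Submodule.factor (le_sup_left : I ≤ I ⊔ Ideal.span {y})) := fun z => by
    obtain ⟨z, rfl⟩ := Submodule.Quotient.mk_surjective _ z
    rw [show Submodule.factor (le_sup_left : I ≤ I ⊔ Ideal.span {y}) (Submodule.Quotient.mk z) =
      Submodule.Quotient.mk z from rfl, Submodule.Quotient.mk_eq_zero]
    constructor
    · intro hz
      obtain ⟨i, hi, w, hw, rfl⟩ := Submodule.mem_sup.1 hz
      obtain ⟨c, rfl⟩ := Ideal.mem_span_singleton'.1 hw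
      refine ⟨Submodule.Quotient.mk c, ?_⟩
      rw [Submodule.liftQ_apply, LinearMap.toSpanSingleton_apply, ← Submodule.Quotient.mk_smul,
        Submodule.Quotient.eq, smul_eq_mul, show c * y - (i + c * y) = -i by ring]
      exact neg_mem hi
    · rintro ⟨w, hw⟩
      obtain ⟨c, rfl⟩ := Submodule.Quotient.mk_surjective _ w
      rw [Submodule.liftQ_apply, LinearMap.toSpanSingleton_apply, ← Submodule.Quotient.mk_smul,
        Submodule.Quotient.eq, smul_eq_mul] at hw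
      rw [show z = c * y - (c * y - z) by ring]
      exact sub_mem (Ideal.mem_sup_right (Ideal.mem_span_singleton'.2 ⟨c, rfl⟩)) (Ideal.mem_sup_left hw)
  rw [Module.length_eq_add_of_exact ι _ hι (Submodule.factor_surjective _) hex,
    Module.length_eq_one_iff.2 inferInstance, add_comm]

lemma length_locMin_ne_top (I : Ideal (LocMin 𝔠 P)) :
    Module.length (LocMin 𝔠 P) (LocMin 𝔠 P ⧸ I) ≠ ⊤ :=
  haveI := isArtinian_locMin P
  Module.length_ne_top_iff.2 (isFiniteLength_iff_isNoetherian_isArtinian.2 ⟨inferInstance, inferInstance⟩)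

lemma lenAt_step {B p : Ideal R} (hB : 𝔠 ≤ B) [p.IsPrime]
    {x : R} (hp : ∀ r, r ∈ p ↔ r * x ∈ B) :
    lenAt P B = lenAt P (B ⊔ Ideal.span {x}) + if p = P.1 then 1 else 0 := by
  have hmap : (B ⊔ Ideal.span {x}).map (phi 𝔠 P) = B.map (phi 𝔠 P) ⊔ Ideal.span {phi 𝔠 P x} := by
    rw [Ideal.map_sup, Ideal.map_span, Set.image_singleton]
  rw [lenAt, lenAt, hmap]
  split_ifs with h
  · subst h
    have hx : phi 𝔠 P x ∉ B.map (phi 𝔠 P) := fun hx => by
      obtain ⟨v, hv, hvx⟩ := (phi_mem_iff P hB x).1 hx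
      exact hv ((hp v).2 hvx)
    have hm : ∀ c ∈ maximalIdeal (LocMin 𝔠 P), c * phi 𝔠 P x ∈ B.map (phi 𝔠 P) := by
      intro c hc
      obtain ⟨r, t, rfl⟩ := IsLocalization.exists_mk'_eq (P.1.map (Ideal.Quotient.mk 𝔠)).primeCompl c
      rw [IsLocalization.AtPrime.mk'_mem_maximal_iff (LocMin 𝔠 P) (P.1.map (Ideal.Quotient.mk 𝔠))] at hc
      obtain ⟨r, rfl⟩ := Ideal.Quotient.mk_surjective r
      have hr : r ∈ P.1 := by rw [← comap_map_mins P]; exact hc
      rw [show IsLocalization.mk' (LocMin 𝔠 P) (Ideal.Quotient.mk 𝔠 r) t =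
        IsLocalization.mk' (LocMin 𝔠 P) (1 : R ⧸ 𝔠) t * phi 𝔠 P r by
          show _ = _ * algebraMap _ (LocMin 𝔠 P) (Ideal.Quotient.mk 𝔠 r)
          rw [mul_comm, IsLocalization.mul_mk'_eq_mk'_of_mul, mul_one],
        mul_assoc, ← map_mul]
      exact Ideal.mul_mem_left _ _ (Ideal.mem_map_of_mem _ ((hp r).1 hr))
    rw [length_quot_step hx hm, ENat.toNat_add (length_locMin_ne_top P _) ENat.one_ne_top]
    rfl
  · have hcp : 𝔠 ≤ p := fun c hc => (hp c).2 (B.mul_mem_right x (hB hc))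
    obtain ⟨u, hu, huP⟩ := SetLike.not_le_iff_exists.1
      (fun hle : p ≤ P.1 => h (le_antisymm hle (P.2.2 ⟨inferInstance, hcp⟩ hle)))
    have hxmem : phi 𝔠 P x ∈ B.map (phi 𝔠 P) := (phi_mem_iff P hB x).2 ⟨u, huP, (hp u).1 hu⟩
    rw [sup_eq_left.2 ((Ideal.span_singleton_le_iff_mem _).2 hxmem), add_zero]

lemma lenAt_top : lenAt P (⊤ : Ideal R) = 0 := by
  have : Subsingleton (LocMin 𝔠 P ⧸ (⊤ : Ideal R).map (phi 𝔠 P)) := by
    rw [Ideal.map_top]; exact Submodule.Quotient.subsingleton_iff.2 rfl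
  rw [lenAt, Module.length_eq_zero, ENat.toNat_zero]

end Local

section Main

variable {𝔠 : Ideal (MvPolynomial (Fin (n + 1)) K)}

lemma exists_colon_prime {B : Ideal (MvPolynomial (Fin (n + 1)) K)}
    (hB : B.IsHomogeneous (homogeneousSubmodule (Fin (n + 1)) K)) (hne : B ≠ ⊤) :
    ∃ (p : Ideal (MvPolynomial (Fin (n + 1)) K)) (a : ℕ) (x : MvPolynomial (Fin (n + 1)) K),
      p.IsPrime ∧ p.IsHomogeneous (homogeneousSubmodule (Fin (n + 1)) K) ∧
      x ∈ homogeneousSubmodule (Fin (n + 1)) K a ∧ x ∉ B ∧ ∀ r, r ∈ p ↔ r * x ∈ B := by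
  let 𝒜 := homogeneousSubmodule (Fin (n + 1)) K
  let T : Set (Ideal (MvPolynomial (Fin (n + 1)) K)) := {q | ∃ (a : ℕ) (x : MvPolynomial (Fin (n + 1)) K),
    x ∈ 𝒜 a ∧ x ∉ B ∧ ∀ r, r ∈ q ↔ r * x ∈ B}
  have hT : T.Nonempty := ⟨B, 0, 1, SetLike.one_mem_graded 𝒜, fun h => hne ((Ideal.eq_top_iff_one B).2 h),
    fun r => by rw [mul_one]⟩
  have hex : ∃ p : Ideal (MvPolynomial (Fin (n + 1)) K), p ∈ T ∧ ∀ q ∈ T, ¬ p < q :=
    set_has_maximal_iff_noetherian.2 (inferInstance : IsNoetherianRing _) T hT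
  obtain ⟨p, ⟨a, x, hx, hxB, hp⟩, hmax⟩ := hex
  have hhom : p.IsHomogeneous 𝒜 := fun i r hr => (hp _).2 (by
    have h := hB (i + a) ((hp r).1 hr)
    rwa [coe_decompose_mul_of_right_mem_of_le 𝒜 hx (Nat.le_add_left a i), Nat.add_sub_cancel] at h)
  refine ⟨p, a, x, ?_, hhom, hx, hxB, hp⟩
  refine hhom.isPrime_of_homogeneous_mem_or_mem
    (fun h => hxB (by simpa using (hp 1).1 (h ▸ Submodule.mem_top))) ?_
  rintro y z hy ⟨e, hz⟩ hyz
  by_contra! ⟨hyp, hzp⟩
  let q : Ideal (MvPolynomial (Fin (n + 1)) K) := B.colon {z * x}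
  have hq : ∀ r, r ∈ q ↔ r * (z * x) ∈ B := fun r => Submodule.mem_colon_singleton
  refine hmax q ⟨e + a, z * x, SetLike.mul_mem_graded hz hx, fun h => hzp ((hp z).2 h), hq⟩ ?_
  refine lt_of_le_of_ne (fun r hr => (hq r).2 ?_) fun he => hyp (he ▸ (hq y).2 ?_)
  · rw [mul_left_comm]; exact B.mul_mem_left _ ((hp r).1 hr)
  · rw [← mul_assoc]; exact (hp _).1 hyz

/-- The associativity formula. -/
theorem assoc_formula {c D : ℕ} (hcD : c + D = n) (h𝔠 : 𝔠.height = c) (hc : 0 < c) :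
    ∀ B : Ideal (MvPolynomial (Fin (n + 1)) K), 𝔠 ≤ B → B.IsHomogeneous (homogeneousSubmodule (Fin (n + 1)) K) →
      ∃ Q : Polynomial ℚ, (∃ N, ∀ j : ℕ, N ≤ j → Q.eval (j : ℚ) = hilb B j) ∧ Q.natDegree ≤ D ∧
        Q.coeff D = ∑ P : Mins 𝔠, (lenAt P B : ℚ) * lead D P.1 := by
  intro B
  induction B using (IsNoetherian.wf (M := MvPolynomial (Fin (n + 1)) K) (R := MvPolynomial (Fin (n + 1)) K)
    inferInstance).induction with
  | _ B ih =>
  intro hle hB
  by_cases htop : B = ⊤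
  · subst htop
    refine ⟨0, ⟨0, fun j _ => ?_⟩, by rw [Polynomial.natDegree_zero]; exact Nat.zero_le _, ?_⟩
    · rw [hilb_eq, Polynomial.eval_zero, Submodule.restrictScalars_top, top_inf_eq, sub_self]
    · rw [Polynomial.coeff_zero, Finset.sum_eq_zero]
      intro P _
      rw [lenAt_top, Nat.cast_zero, zero_mul]
  obtain ⟨p, a, x, hpp, hph, hx, hxB, hp⟩ := exists_colon_prime hB htop
  let B' := B ⊔ Ideal.span {x}
  have hlt : B < B' := lt_of_le_of_ne le_sup_left fun h =>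
    hxB (h ▸ Ideal.mem_sup_right (Ideal.mem_span_singleton_self x))
  have hB' : B'.IsHomogeneous (homogeneousSubmodule (Fin (n + 1)) K) :=
    hB.sup (Ideal.homogeneous_span _ _ fun y hy => ⟨a, (Set.mem_singleton_iff.1 hy) ▸ hx⟩)
  obtain ⟨Q', ⟨N', hN'⟩, hd', hc'⟩ := ih B' hlt (hle.trans le_sup_left) hB'
  have hcp : 𝔠 ≤ p := fun r hr => (hp r).2 (Ideal.mul_mem_right x B (hle hr))
  have hne : p ≠ ⊥ := fun h => by
    have h1 := Ideal.height_mono hcp
    rw [h, h𝔠, Ideal.height_bot] at h1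
    have : c = 0 := by exact_mod_cast (le_antisymm h1 zero_le)
    omega
  obtain ⟨d, hd⟩ : ∃ d : ℕ, ringKrullDim (MvPolynomial (Fin (n + 1)) K ⧸ p) = d := by
    haveI : Nontrivial (MvPolynomial (Fin (n + 1)) K ⧸ p) := Ideal.Quotient.nontrivial_iff.2 hpp.ne_top
    obtain ⟨d, hd, -⟩ := VarDim.exists_dim_eq_trdeg K (MvPolynomial (Fin (n + 1)) K ⧸ p)
    exact ⟨d, hd⟩
  obtain ⟨e, he, hce⟩ : ∃ e : ℕ, p.height = e ∧ c ≤ e := by
    obtain ⟨e, he⟩ := WithTop.ne_top_iff_exists.1 (Ideal.height_ne_top hpp.ne_top)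
    refine ⟨e, he.symm, ?_⟩
    have h1 := Ideal.height_mono hcp
    rw [h𝔠, ← he] at h1
    exact Nat.cast_le.1 h1
  have hed : e + d ≤ n + 1 := by
    have := height_add_dim_le p
    rw [he, hd] at this
    exact_mod_cast this
  obtain ⟨Qp, ⟨Np, hNp⟩, hdp⟩ := exists_poly_hilb hph hne (D := D) (by
    rw [hd]; exact_mod_cast (by omega : d ≤ D + 1))
  obtain ⟨hds, hcs⟩ := coeff_comp_shift hdp (-(a : ℚ))
  refine ⟨Q' + Qp.comp (Polynomial.X + Polynomial.C (-(a : ℚ))), ⟨max N' Np + a, fun j hj => ?_⟩,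
    (Polynomial.natDegree_add_le _ _).trans (max_le hd' hds), ?_⟩
  · obtain ⟨b, rfl⟩ : ∃ b, j = b + a := ⟨j - a, by omega⟩
    rw [hilb_step hB hx hp b, Nat.cast_add (R := ℚ) (hilb _ _), Polynomial.eval_add, hN' _ (by omega),
      Polynomial.eval_comp, Polynomial.eval_add, Polynomial.eval_X, Polynomial.eval_C,
      show ((b + a : ℕ) : ℚ) + -(a : ℚ) = (b : ℚ) by push_cast; ring, hNp b (by omega)]
  · rw [Polynomial.coeff_add, hc', hcs]
    have hsum : ∑ P : Mins 𝔠, ((if p = P.1 then 1 else 0 : ℕ) : ℚ) * lead D P.1 = Qp.coeff D := by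
      by_cases hmin : p ∈ 𝔠.minimalPrimes
      · rw [Finset.sum_eq_single (⟨p, hmin⟩ : Mins 𝔠) (fun P _ hP => by
          rw [if_neg fun h => hP (Subtype.ext h.symm), Nat.cast_zero, zero_mul]) (fun h => absurd (Finset.mem_univ _) h),
          if_pos rfl, Nat.cast_one, one_mul, lead_eq hNp]
      · rw [Finset.sum_eq_zero fun P _ => by
          rw [if_neg fun h : p = P.1 => hmin (h ▸ P.2), Nat.cast_zero, zero_mul]]
        symm
        obtain ⟨q, hq, hqp⟩ := Ideal.exists_minimalPrimes_le hcp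
        haveI := hq.1.1
        have h1 := Ideal.height_add_one_le_of_lt_of_isPrime (lt_of_le_of_ne hqp fun h => hmin (h ▸ hq))
        have h2 : c + 1 ≤ e := by
          have h3 := (add_le_add (h𝔠.ge.trans (Ideal.height_mono hq.1.2)) le_rfl).trans h1
          rw [he] at h3
          exact_mod_cast h3
        rcases Nat.eq_zero_or_pos D with hD | hD
        · rcases eq_or_ne Qp 0 with h0 | h0
          · rw [h0, Polynomial.coeff_zero]
          · have hr := S10907.result K n p hph Qp h0 ⟨Np, fun j hj => by rw [hNp j hj, hilb_eq]⟩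
            rw [hd] at hr
            have : d = Qp.natDegree + 1 := by exact_mod_cast hr
            omega
        · obtain ⟨Q₂, ⟨N₂, hN₂⟩, hd₂⟩ := exists_poly_hilb hph hne (D := D - 1) (by
            rw [hd]; exact_mod_cast (by omega : d ≤ D - 1 + 1))
          rw [eq_of_eventually (Q₁ := Qp) (Q₂ := Q₂) (N := max Np N₂) fun j hj => by
            rw [hNp j ((le_max_left _ _).trans hj), hN₂ j ((le_max_right _ _).trans hj)]]
          exact Polynomial.coeff_eq_zero_of_natDegree_lt (by omega)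
    rw [← hsum, ← Finset.sum_add_distrib]
    refine Finset.sum_congr rfl fun P _ => ?_
    rw [lenAt_step P hle hp, Nat.cast_add, add_mul]

end Main

end Groth.Agent.GrLib8.Assoc
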